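import Cfsg.Agent.CITCor.TICent
import Cfsg.Agent.CITCor.NonSimple
import Cfsg.Agent.Solv.FpfSolvable
import Cfsg.Agent.S0556
import Cfsg.Agent.S0042
import Cfsg.Agent.S0035

/-!
# Groups with a subgroup of even order containing the centralisers of its elements
-/

set_option autoImplicit false

universe u

namespace Cfsg.Lib.Part

open Cfsg.Agent Cfsg.Lib.Local Cfsg.Lib.Bender Cfsg.Lib.Chev.RankOne MulAction
open Cfsg.Lib.Trans Cfsg.Lib.CIT Cfsg.Lib.CITCor Subgroup Pointwise

variable {G : Type u} [Group G] [Finite G]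

theorem setup_cases {Ω : Type u} [MulAction G Ω] [FaithfulSMul G Ω] {a : Ω} {t : G}
    {Q : Subgroup G} (hS : IsRankOneSetup G Ω a t Q) (h2 : TwoRank G) (hc : IsCIT G) :
    IsL2Even G ∨ Cfsg.Lie.IsoSuzuki G := by
  have := Fact.mk Nat.prime_two
  obtain ⟨L, hL, hodd, hB⟩ := exists_bender hS h2
  have hse := se_stabilizer hS
  have ht : orderOf t = 2 := orderOf_eq_two hS.ne_one hS.mul_self
  have htL : t ∈ L := mem_of_orderOf_two_of_odd_index hodd ht
  obtain ⟨s, hs, hs2⟩ := hse.exists_involution_mem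
  have hse' : SE 2 ((stabilizer G a).subgroupOf L) := hse.subgroupOf (fun h => hS.not_mem (h htL))
    ((dvd_card_iff_exists_orderOf _).2 ⟨s, ⟨hs, mem_of_orderOf_two_of_odd_index hodd hs2⟩, hs2⟩)
  obtain ⟨k, hk⟩ := exists_index_eq hc L ⟨t, htL⟩ (by rw [← orderOf_coe, ht])
    fun y hy => hse'.isConj_involutions (by rw [← orderOf_coe, ht]) hy
  obtain rfl : L = ⊤ := by
    rw [← index_eq_one]
    exact Nat.eq_one_of_dvd_coprimes ((Nat.coprime_two_left.mpr hodd).pow_left k) hk.dvd dvd_rfl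
  rcases hB with hB | hB | ⟨F, i1, i2, n, hn, hF, ⟨e⟩⟩
  · exact Or.inl (IsL2Even.of_equiv hB topEquiv)
  · obtain ⟨F, i1, i2, m, hm, hF, ⟨e⟩⟩ := hB
    exact Or.inr ⟨F, i1, i2, m, hm, hF, ⟨topEquiv.symm.trans e⟩⟩
  · obtain ⟨s, x, hs, hx1, hx, hc'⟩ := psu3_exists_commute hn hF
    let f := e.symm.trans topEquiv
    have hs' : orderOf (f s) = 2 := by rw [f.orderOf_eq, hs]
    have := hc.eq_one_of_comm (x := f x) (y := f s) (by rwa [f.orderOf_eq]) (sq_of_orderOf hs').1
      (k := 1) (by rw [pow_one, sq, (sq_of_orderOf hs').2]) (by rw [← map_mul, ← hc', map_mul])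
    exact absurd (by simpa using this) hx1

theorem cc_isPGroup {H : Subgroup G} (h : CC H) (h2 : TwoRank G) : IsPGroup 2 H := by
  obtain ⟨w, hS⟩ := h.setup h2
  have := CC.faithful' h
  exact isPGroup_Q hS h2

theorem cc_isCIT {H : Subgroup G} (h : CC H) (h2 : TwoRank G) : IsCIT G := fun s hs => by
  obtain ⟨P, hP, hsP⟩ := h.exists_mem hs
  exact (cc_isPGroup (h.of_isC hP) h2).to_le
    ((h.of_isC hP).cent s hsP (SE.ne_one_of_orderOf_two hs))

/-- Suzuki's theorem without the simplicity assumption. -/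
theorem cc_cases {H : Subgroup G} (h : CC H) (h2 : TwoRank G) :
    IsL2Even G ∨ Cfsg.Lie.IsoSuzuki G := by
  obtain ⟨w, hS⟩ := h.setup h2
  have := CC.faithful' h
  exact setup_cases hS h2 (cc_isCIT h h2)

theorem isSolvable_of_frobenius {H : Subgroup G} (h : IsFrobeniusComplement H)
    (hs : Group.IsSolvable H) : Group.IsSolvable G := by
  obtain ⟨N, e1, hN, hn⟩ := S0042.result H h
  obtain ⟨N', e2, -, hc⟩ := S0035.result H h
  obtain rfl : N = N' := SetLike.coe_injective (e1.trans e2.symm)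
  have h1 := Solv.Fpf.isSolvable_sup_of_le_normalizer (N := N) (B := H)
    (by rw [normalizer_eq_top]; exact le_top) inferInstance hs
  rw [hc.sup_eq_top] at h1
  exact Group.isSolvable_of_surjective (f := (⊤ : Subgroup G).subtype) fun g => ⟨⟨g, trivial⟩, rfl⟩

/-- A group without solvable normal subgroups has `2`-rank at least two. -/
theorem twoRank_of_semisimple [Nontrivial G]
    (h : ∀ N : Subgroup G, N.Normal → Group.IsSolvable N → N = ⊥) : TwoRank G := by
  have := Fact.mk Nat.prime_two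
  have hs : ¬ Group.IsSolvable G := fun hs => top_ne_bot (h ⊤ inferInstance inferInstance)
  obtain ⟨t, ht⟩ := exists_prime_orderOf_dvd_card' 2 (Cor.even_card_of_not_isSolvable hs)
  have hO : oddCore G = ⊥ := h _ inferInstance (FT.odd_order_solvable (Solv.odd_card_oddCore G))
  by_contra h2
  have h3 := oddCore_sup_centralizer h2 ht
  rw [hO, bot_sup_eq] at h3
  have h4 : t ∈ center G := mem_center_iff.2 fun g =>
    mem_centralizer_singleton_iff.1 (h3.ge (mem_top g))
  rw [h (center G) inferInstance (Group.isSolvable_of_comm fun a b =>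
    Subtype.ext (mem_center_iff.1 b.2 a))] at h4
  exact SE.ne_one_of_orderOf_two ht h4

/-- An abelian proper subgroup is properly contained in a solvable subgroup. -/
theorem exists_solvable_gt {M : Subgroup G} (hM : M ≠ ⊤) [IsMulCommutative M] :
    ∃ L : Subgroup G, M < L ∧ Group.IsSolvable L := by
  obtain ⟨L, -, hL⟩ := Finite.exists_le_minimal (p := fun L : Subgroup G => M < L) hM.lt_top
  refine ⟨L, hL.prop, ?_⟩
  have h1 : IsCoatom (M.subgroupOf L) := by
    refine ⟨fun e => hL.prop.not_ge (subgroupOf_eq_top.1 e), fun X hX => ?_⟩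
    have h2 : M < X.map L.subtype := by
      have := map_lt_map_iff_of_injective L.subtype_injective |>.2 hX
      rwa [subgroupOf_map_subtype, inf_eq_left.2 hL.prop.le] at this
    have h3 := hL.le_of_le h2 (map_subtype_le X)
    exact eq_top_iff.2 fun x _ => by
      obtain ⟨y, hy, e⟩ := h3 x.2
      exact (Subtype.ext e : y = x) ▸ hy
  have : IsMulCommutative (M.subgroupOf L) := ⟨⟨fun a b => Subtype.ext (Subtype.ext
    (setLike_mul_comm (s := M) a.2 b.2))⟩⟩
  exact ⟨3, S0556.result _ h1⟩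

omit [Finite G] in
theorem isSolvable_of_comm (A : Subgroup G) [IsMulCommutative A] : Group.IsSolvable A :=
  Group.isSolvable_of_comm fun a b => Subtype.ext (setLike_mul_comm (s := A) a.2 b.2)

omit [Finite G] in
theorem exists_center_of_nilpotent {K : Subgroup G} (hK : Group.IsNilpotent K) (h1 : K ≠ ⊥) :
    ∃ z ∈ K, z ≠ 1 ∧ ∀ h ∈ K, h * z = z * h := by
  have := (nontrivial_iff_ne_bot K).2 h1
  obtain ⟨z, hz⟩ := (nontrivial_iff_exists_ne_one _).1 (Group.IsNilpotent.center_ne_bot K |>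
    (nontrivial_iff_ne_bot _).2)
  exact ⟨z, z.2, fun e => hz.2 (Subtype.ext e), fun y hy =>
    congrArg Subtype.val (mem_center_iff.1 hz.1 ⟨y, hy⟩)⟩

theorem exists_pow_prime {x : G} (hx : x ≠ 1) : ∃ p k : ℕ, p.Prime ∧ orderOf (x ^ k) = p := by
  obtain ⟨p, hp, hd⟩ := Nat.exists_prime_and_dvd (mt orderOf_eq_one_iff.1 hx)
  exact ⟨p, _, hp, orderOf_pow_orderOf_div (orderOf_pos x).ne' hd⟩

/-- Groups with a Frobenius system. -/
theorem frobenius_system (F : Subgroup G → Subgroup G)
    (h : ∀ M : Subgroup G, (Group.IsSolvable M ∧ ∀ M' : Subgroup G, M < M' → ¬ Group.IsSolvable M') →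
      F M ≤ M ∧ M ≤ normalizer (F M : Set G) ∧
      (∀ a ∈ M, a ∉ F M → ∀ x ∈ F M, x * a = a * x → x = 1) ∧
      (∀ g : G, g ∉ M → F M ⊓ (MulAut.conj g • F M) = ⊥) ∧
      (F M ≠ ⊥ ∨ IsMulCommutative M)) (hs : ¬ Group.IsSolvable G) :
    IsL2Even G ∨ Cfsg.Lie.IsoSuzuki G := by
  have ex : ∀ A : Subgroup G, Group.IsSolvable A → ∃ M : Subgroup G, A ≤ M ∧
      (Group.IsSolvable M ∧ ∀ M' : Subgroup G, M < M' → ¬ Group.IsSolvable M') := fun A hA => by
    obtain ⟨M, hM, hm⟩ := Finite.exists_le_maximal (p := fun L : Subgroup G => Group.IsSolvable L) hA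
    exact ⟨M, hM, hm.prop, fun M' h1 h2 => h1.not_ge (hm.le_of_ge h2 h1.le)⟩
  have key : ∀ M : Subgroup G, (Group.IsSolvable M ∧ ∀ M' : Subgroup G, M < M' →
      ¬ Group.IsSolvable M') → M ≠ ⊤ ∧ F M ≠ ⊥ ∧ ∀ x ∈ F M, x ≠ 1 → centralizer {x} ≤ F M := by
    intro M hM
    obtain ⟨h1, h2, h3, h4, h5⟩ := h M hM
    have hM1 : M ≠ ⊤ := by
      rintro rfl
      have := hM.1
      exact hs (Group.isSolvable_of_surjective (f := (⊤ : Subgroup G).subtype)
        fun g => ⟨⟨g, trivial⟩, rfl⟩)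
    refine ⟨hM1, h5.resolve_right fun h6 => ?_, fun x hx hx1 g hg => ?_⟩
    · obtain ⟨L, hL, hL'⟩ := exists_solvable_gt hM1
      exact hM.2 L hL hL'
    · rw [mem_centralizer_singleton_iff] at hg
      by_contra hgK
      refine hx1 (h3 g ?_ hgK x hx hg.symm)
      by_contra hgM
      have : x ∈ F M ⊓ (MulAut.conj g • F M) := ⟨hx, Local.mem_conj_smul.2 (by
        rw [mul_assoc, ← hg, inv_mul_cancel_left]; exact hx)⟩
      exact hx1 (mem_bot.1 (h4 g hgM ▸ this))
  have hR : ∀ N : Subgroup G, N.Normal → Group.IsSolvable N → N = ⊥ := fun R hR hRs => by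
    by_contra h0
    obtain ⟨p, N, -, hN, -, hc, -⟩ := Solv.exists_isMinNormal_elementary_le R h0
    have := hN.normal
    obtain ⟨M, hNM, hM⟩ := ex N (isSolvable_of_comm N)
    obtain ⟨h1, h2, h3, h4, -⟩ := h M hM
    obtain ⟨k1, k2, k3⟩ := key M hM
    have h5 : N ≤ F M := by
      by_cases h6 : N ⊓ F M = ⊥
      · obtain ⟨x, hx, hx1⟩ := (bot_or_exists_ne_one _).resolve_left k2
        refine le_trans (fun n hn => mem_centralizer_singleton_iff.2 ?_) (k3 x hx hx1)
        have : n * x * n⁻¹ * x⁻¹ ∈ N ⊓ F M := ⟨by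
          rw [mul_assoc n, mul_assoc n]
          exact N.mul_mem hn (by simpa [mul_assoc] using this.conj_mem _ (N.inv_mem hn) x),
          (F M).mul_mem (mem_normalizer_conj (h2 (hNM hn)) hx) ((F M).inv_mem hx)⟩
        exact commutatorElement_eq_one_iff_mul_comm.1 (mem_bot.1 (h6 ▸ this))
      · obtain ⟨x, hx, hx1⟩ := (bot_or_exists_ne_one _).resolve_left h6
        exact le_trans (fun n hn => mem_centralizer_singleton_iff.2
          (setLike_mul_comm (s := N) hn hx.1)) (k3 x hx.2 hx1)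
    obtain ⟨g, -, hg⟩ := SetLike.exists_of_lt k1.lt_top
    refine hN.ne_bot (eq_bot_iff.2 fun n hn => ?_)
    rw [← h4 g hg]
    exact ⟨h5 hn, Local.mem_conj_smul.2 (h5 (by simpa using this.conj_mem n hn g⁻¹))⟩
  have : Nontrivial G := by
    by_contra h0
    rw [not_nontrivial_iff_subsingleton] at h0
    exact hs inferInstance
  have h2 := twoRank_of_semisimple hR
  obtain ⟨x, y, hx, hy, hxy, hc⟩ := twoRank_iff.1 h2
  have hV := (four_group hx hy hxy hc).1
  obtain ⟨M, hVM, hM⟩ := ex (closure {x, y}) (isSolvable_of_comm _)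
  obtain ⟨h1, h3, h4, h5, -⟩ := h M hM
  obtain ⟨k1, k2, k3⟩ := key M hM
  have hKs : Group.IsSolvable (F M) := by
    have := hM.1
    exact Group.isSolvable_of_isSolvable_injective (f := inclusion h1) (inclusion_injective _)
  have fpf : ∀ a ∈ M, a ∉ F M → F M ⊓ centralizer {a} = ⊥ := fun a ha haK =>
    eq_bot_iff.2 fun z hz => h4 a ha haK z hz.1 (mem_centralizer_singleton_iff.1 hz.2)
  refine cc_cases (H := F M) ⟨k3, exists_center_of_nilpotent ?_ k2, ?_, fun e =>
    k2 (hR _ (normalizer_eq_top_iff.1 e) hKs)⟩ h2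
  · have hlt : F M < M := h1.lt_of_ne fun e => hs (isSolvable_of_frobenius (H := M)
      ⟨e ▸ k2, k1, fun g hg => by simpa only [e] using h5 g hg⟩ hM.1)
    obtain ⟨a, ha, haK⟩ := SetLike.exists_of_lt hlt
    obtain ⟨p, k, hp, ho⟩ := exists_pow_prime (x := a) fun e => haK (e ▸ one_mem _)
    refine Solv.Fpf.isNilpotent_of_isSolvable hp (h3 (pow_mem ha k)) (ho ▸ pow_orderOf_eq_one _)
      (fpf _ (pow_mem ha k) fun hk => ?_) hKs
    have := h4 a ha haK _ hk (by group)
    rw [this, orderOf_one] at ho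
    exact hp.one_lt.ne ho
  · classical
    by_contra h6
    push Not at h6
    have h7 := Solv.Fpf.mem_zpowers_of_commute (hVM.trans h3) k2 (fun a ha ha1 => fpf a (hVM ha)
      fun haK => h6 a haK (orderOf_eq_two ha1 ?_)) Nat.prime_two (subset_closure (by simp))
      (subset_closure (by simp)) hx (hy ▸ pow_orderOf_eq_one y) hc
    · rw [mem_zpowers_iff_mem_range_orderOf, hx] at h7
      obtain ⟨i, hi, e⟩ := Finset.mem_image.1 h7
      rw [Finset.mem_range] at hi
      interval_cases i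
      · exact SE.ne_one_of_orderOf_two hy (by simpa using e.symm)
      · exact hxy (by simpa using e)
    · have ex := SE.mul_self_of_orderOf_two hx
      have ey := SE.mul_self_of_orderOf_two hy
      rcases mem_closure_pair_of_commute ex ey hc ha with rfl | rfl | rfl | rfl
      · exact mul_one 1
      · exact ex
      · exact ey
      · calc x * y * (x * y) = x * (y * x) * y := by group
          _ = x * x * (y * y) := by rw [← hc]; group
          _ = 1 := by rw [ex, ey, mul_one]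

end Cfsg.Lib.Part
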