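import Cfsg.Agent.Part.PtB
import Cfsg.Agent.GW.Cor
import Cfsg.Agent.GW.A7Perm
import Cfsg.Agent.GW.L2Tor
import Cfsg.Agent.Inst.S0483
import Cfsg.Agent.Inst.BenderCore
import Cfsg.Agent.S0215
import Cfsg.Agent.Solv.CyclicIndexP

/-!
# Partitions of groups without solvable normal subgroups (Suzuki)
-/

set_option autoImplicit false

universe u

namespace Cfsg.Lib.Part

open Cfsg.Agent Cfsg.Lib.Solv Cfsg.Lib.Known Cfsg.Lib.Local Cfsg.Lib.CITCor Cfsg.Lib.GW.L2 Subgroup
open scoped MatrixGroups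

variable {G : Type u} [Group G]

namespace Pt

variable (P : Pt G) {z u : G}

theorem sq_of_not_mem (hz : orderOf z = 2) {x : G} (hc : Commute x z) (h : x ∉ P.c z) :
    x * x = 1 :=
  mul_self_of_orderOf ((P.orderOf_eq (ne_one_of_orderOf hz) h hc.symm).symm.trans hz)

theorem inverts' (hz : orderOf z = 2) (hc : Commute u z) (h : u ∉ P.c z) {y : G} (hy : y ∈ P.c z) :
    u * y * u⁻¹ = y⁻¹ :=
  P.inverts (ne_one_of_orderOf hz) (P.mem_norm_of_comm (ne_one_of_orderOf hz) hc) h
    (P.sq_of_not_mem hz hc h) hy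

theorem comm_of_inv {y : G} (h : u * y * u⁻¹ = y⁻¹) (hy : y * y = 1) : Commute u y := by
  rw [inv_eq_of_mul_eq_one_right hy] at h
  exact mul_inv_eq_iff_eq_mul.1 h

theorem comm_of_mem (hz : orderOf z = 2) (hc : Commute u z) (h : u ∉ P.c z) {x y : G}
    (hx : x ∈ P.c z) (hy : y ∈ P.c z) : x * y = y * x := by
  apply inv_injective
  rw [← P.inverts' hz hc h (mul_mem hx hy), mul_inv_rev, ← P.inverts' hz hc h hx,
    ← P.inverts' hz hc h hy]
  group

theorem sq_of_three (hz : orderOf z = 2) {v w : G} (hv : Commute v z) (hw : Commute w z)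
    (h1 : v ∉ P.c z) (h2 : w ∉ P.c z) (h3 : v * w ∉ P.c z) {x : G} (hx : Commute x z) :
    x * x = 1 := by
  by_cases h : x ∈ P.c z
  · have e := P.inverts' hz (hv.mul_left hw) h3 h
    rw [show v * w * x * (v * w)⁻¹ = v * (w * x * w⁻¹) * v⁻¹ by group, P.inverts' hz hw h2 h,
      P.inverts' hz hv h1 (inv_mem h), inv_inv] at e
    exact mul_eq_one_iff_eq_inv.2 e
  · exact P.sq_of_not_mem hz hx h

/-- The elements of the centralizer of `z` outside the component of `z` form at most one coset. -/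
def Two (z : G) : Prop :=
  ∀ v w : G, Commute v z → Commute w z → v ∉ P.c z → w ∉ P.c z → v * w ∈ P.c z

theorem Two.conj {P : Pt G} (h : P.Two z) (hz : z ≠ 1) (g : G) : P.Two (g * z * g⁻¹) := by
  intro v w hv hw h1 h2
  have e : ∀ x : G, x = g * (g⁻¹ * x * g) * g⁻¹ := fun x => by group
  have c : ∀ x : G, Commute x (g * z * g⁻¹) → Commute (g⁻¹ * x * g) z := fun x hx => by
    change g⁻¹ * x * g * z = z * (g⁻¹ * x * g)
    calc g⁻¹ * x * g * z = g⁻¹ * (x * (g * z * g⁻¹)) * g := by group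
      _ = _ := by rw [hx.eq]; group
  rw [e v, P.conj_iff hz] at h1
  rw [e w, P.conj_iff hz] at h2
  simpa [mul_assoc] using P.conj g hz (h _ _ (c v hv) (c w hw) h1 h2)

variable [Finite G] (hR : ∀ N : Subgroup G, N.Normal → Group.IsSolvable N → N = ⊥)

include hR in
theorem typeI (hnil : ∀ x : G, x ≠ 1 → Group.IsNilpotent (P.c x)) (hz : orderOf z = 2)
    (h : ∀ g : G, Commute g z → g ∈ P.c z) : IsL2Even G ∨ Cfsg.Lie.IsoSuzuki G := by
  have := Fact.mk Nat.prime_two
  have hz1 := ne_one_of_orderOf hz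
  have : Nontrivial G := ⟨⟨z, 1, hz1⟩⟩
  have h2 := twoRank_of_semisimple hR
  have hinv : ∀ x ∈ normalizer (P.c z : Set G), x * x = 1 → x ∈ P.c z := fun x hx hxx => by
    by_contra hx'
    exact hx' (h x (comm_of_inv (P.inverts hz1 hx hx' hxx (P.mem z)) (mul_self_of_orderOf hz)))
  have hse : SE 2 (normalizer (P.c z : Set G)) := by
    refine ⟨fun e => hz1 ?_, hz ▸ Subgroup.orderOf_dvd_natCard _ (le_normalizer (P.mem z)),
      fun x hx hxo g hg => P.mem_norm hz1 (ne_one_of_orderOf hxo)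
        (hinv x hx (mul_self_of_orderOf hxo)) (hinv _ hg ?_)⟩
    · have := hnil z hz1
      exact mem_bot.1 (hR _ (normalizer_eq_top_iff.1 e) inferInstance ▸ P.mem z)
    · rw [conj_mul, mul_self_of_orderOf hxo]; group
  have hcore : (normalizer (P.c z : Set G)).normalCore = ⊥ := by
    refine hR _ inferInstance (FT.odd_order_solvable (Nat.odd_iff.2 ?_))
    by_contra h0
    obtain ⟨t, ht, hto⟩ := exists_mem_orderOf_eq_prime Nat.prime_two
      (K := (normalizer (P.c z : Set G)).normalCore) (by omega)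
    exact hse.ne_top (eq_top_iff.2 fun g _ => hse.mem_of_conj t (normalCore_le _ ht) hto g (ht g))
  obtain ⟨t, Q, hS⟩ := Bender.core_of_gate G _ hse hcore h2
  have := Bender.faithful_quotient hcore
  have hQ := Bender.isPGroup_Q hS h2
  have hst : ∀ g : G, g • ((1 : G) : G ⧸ normalizer (P.c z : Set G)) = ((1 : G) : _) ↔
      g ∈ normalizer (P.c z : Set G) := fun g => by
    rw [MulAction.Quotient.smul_mk, QuotientGroup.eq]; simp
  have hQD : Q ≤ P.c z := fun y hy => by
    by_contra hy'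
    obtain ⟨k, hk⟩ := hQ ⟨y, hy⟩
    have hk' : y ^ 2 ^ k = 1 := congrArg Subtype.val hk
    obtain ⟨j, h3, h4⟩ := PG.exists_pow_not_mem_pow_mem (M := P.c z) (p := 2) (k := k) hy'
      (by rw [hk']; exact one_mem _)
    exact h3 (hinv _ (pow_mem ((hst y).1 (hS.le hy)) _) (by
      rw [← pow_two]; exact P.pow_eq_one hz1 h3 h4))
  have hC : IsPGroup 2 (centralizer ({z} : Set G)) := isPGroup_of_forall_coprime_eq_one fun x hx ho => by
    have hxD := h x (mem_centralizer_singleton_iff.1 hx)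
    refine Bender.eq_one_of_centralizes_Q hS hQ ((hst x).2 (le_normalizer hxD))
      (Nat.coprime_two_right.1 ho) fun y hy => ?_
    obtain ⟨k, hk⟩ := exists_orderOf_eq_pow_of_mem hQ hy
    exact commute_of_mem_of_coprime_of_isNilpotent (hnil z hz1) hxD (hQD hy) (hk ▸ ho.pow_right k)
  refine setup_cases hS h2 fun s hs => ?_
  obtain ⟨g, rfl⟩ := isConj_iff.1 (hse.isConj_involutions hz hs)
  rw [← Cfsg.Lib.CIT.cj_cent_singleton]
  exact hC.map _

include hR in
theorem unique (hz : orderOf z = 2) (hc : Commute u z) (hu : u ∉ P.c z) (h2 : P.Two z)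
    (S : Sylow 2 G) (hzS : z ∈ (S : Subgroup G)) (hS : ∀ s ∈ (S : Subgroup G), Commute s z) {t : G}
    (ht : t ∈ P.c z) (hto : orderOf t = 2) : t = z := by
  by_contra htz
  have hz1 := ne_one_of_orderOf hz
  have hzz := mul_self_of_orderOf hz
  have huu := P.sq_of_not_mem hz hc hu
  obtain ⟨N, hN, hNo, hzN⟩ := S0215.result S z hz hzS fun g hg => by
    by_cases h : g * z * g⁻¹ ∈ P.c z
    · have hgN := P.mem_norm hz1 hz1 (P.mem z) h
      by_cases hgD : g ∈ P.c z
      · rw [P.comm_of_mem hz hc hu hgD (P.mem z), mul_inv_cancel_right]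
      by_cases he : 2 ∣ orderOf g
      · have := P.pow_prime hz1 hgN hgD Nat.prime_two
          (hz ▸ Subgroup.orderOf_dvd_natCard _ (P.mem z)) he
        rw [P.inverts hz1 hgN hgD (by rwa [← pow_two]) (P.mem z), inv_eq_of_mul_eq_one_right hzz]
      exfalso
      have huN := P.mem_norm_of_comm hz1 hc
      have h3 : g * u * g⁻¹ ∉ P.c z := fun e => hu ((mem_normalizer_iff.1 hgN u).2 e)
      have h4 := h2 _ _ (comm_of_inv (P.inverts hz1 (mul_mem (mul_mem hgN huN) (inv_mem hgN)) h3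
        (by rw [conj_mul, huu]; group) (P.mem z)) hzz) hc h3 hu
      let f := QuotientGroup.mk' ((P.c z).subgroupOf (normalizer (P.c z : Set G)))
      have hf : ∀ x : normalizer (P.c z : Set G), f x = 1 ↔ x.1 ∈ P.c z := fun x =>
        QuotientGroup.eq_one_iff x
      let g' : normalizer (P.c z : Set G) := ⟨g, hgN⟩
      let u' : normalizer (P.c z : Set G) := ⟨u, huN⟩
      have h5 : f u' * f u' = 1 := by 
        rw [← map_mul, hf]; change u * u ∈ _; rw [huu]; exact one_mem _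
      have h6 : Commute (f g') (f u') := by
        have : f (g' * u' * g'⁻¹ * u') = 1 := (hf _).2 h4
        simp only [map_mul, map_inv] at this
        exact comm_of_inv (eq_inv_of_mul_eq_one_left this) h5
      have h7 : Odd (orderOf (f g')) := Odd.of_dvd_nat (Nat.odd_iff.2 (by omega) : Odd (orderOf g))
        ((orderOf_map_dvd f g').trans (Subgroup.orderOf_coe g').symm.dvd)
      have h8 := h6.orderOf_mul_eq_mul_orderOf_of_coprime (by
        rw [orderOf_of_mul_self h5 fun e => hu ((hf u').1 e)]; exact Nat.coprime_two_right.2 h7)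
      rw [orderOf_of_mul_self h5 fun e => hu ((hf u').1 e), ← map_mul] at h8
      have h9 : (g * u) ^ 2 = 1 := P.pow_prime hz1 (mul_mem hgN huN) (fun e => by
        rw [(hf (g' * u')).2 e, orderOf_one] at h8
        omega) Nat.prime_two (hz ▸ Subgroup.orderOf_dvd_natCard _ (P.mem z))
        (((Dvd.intro_left _ h8.symm).trans (orderOf_map_dvd f _)).trans
          (Subgroup.orderOf_coe (g' * u')).symm.dvd)
      have h10 : f (g' * u') ^ 2 = 1 := by 
        rw [← map_pow, hf]; change (g * u) ^ 2 ∈ _; rw [h9]; exact one_mem _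
      rw [map_mul, h6.mul_pow, pow_two (f u'), h5, mul_one, pow_two] at h10
      exact hgD ((hf g').1 (eq_one_of_odd h7 h10))
    · exfalso
      have htt := mul_self_of_orderOf hto
      have key : ∀ x ∈ P.c z, x ≠ 1 → x ∉ P.c (g * z * g⁻¹) := fun x hx hx1 e =>
        hx1 (P.eq_one hz1 h hx e)
      exact key _ (mul_mem (P.mem z) ht) (fun e => htz (by
        rw [eq_inv_of_mul_eq_one_right e, inv_eq_of_mul_eq_one_right hzz]))
        (h2.conj hz1 g z t (hS _ hg).symm (comm_of_inv (P.inverts' hz (hS _ hg) h ht) htt).symm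
          (key z (P.mem z) hz1) (key t ht (ne_one_of_orderOf hto)))
  rw [hR N hN (FT.odd_order_solvable hNo)] at hzN
  refine hz1 (mem_bot.1 (hR (center G) inferInstance (Group.isSolvable_of_comm fun a b =>
    Subtype.ext (mem_center_iff.1 b.2 a)) ▸ mem_center_iff.2 fun g => ?_))
  exact (commutatorElement_eq_one_iff_mul_comm.1 (mem_bot.1 (hzN g))).symm

theorem dih2 (hz : orderOf z = 2) (hc : Commute u z) (hu : u ∉ P.c z) (h2 : P.Two z)
    (S : Sylow 2 G) (hS : ∀ s ∈ (S : Subgroup G), Commute s z)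
    (h : ∀ t ∈ P.c z, orderOf t = 2 → t = z) : GW.Dih2 G := by
  have := Fact.mk Nat.prime_two
  obtain ⟨v, hv, hv'⟩ : ∃ v ∈ (S : Subgroup G), v ∉ P.c z := by
    by_contra h0
    push Not at h0
    have h1 : u ∈ normalizer ((S : Subgroup G) : Set G) := mem_normalizer_iff.2 fun x =>
      ⟨fun hx => P.inverts' hz hc hu (h0 x hx) ▸ inv_mem hx, fun hx => by
        have e := P.inverts' hz hc hu (h0 _ hx)
        rw [show u * (u * x * u⁻¹) * u⁻¹ = u * u * x * (u * u)⁻¹ by group,
          P.sq_of_not_mem hz hc hu, one_mul, inv_one, mul_one] at e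
        exact e ▸ inv_mem hx⟩
    have h3 := S.is_maximal' (IsPGroup.to_sup_of_normal_left' S.isPGroup'
      (IsPGroup.of_card (n := 1) (by
        rw [Nat.card_zpowers, ← P.orderOf_eq (ne_one_of_orderOf hz) hu hc.symm, hz]; rfl))
      (zpowers_le.2 h1)) le_sup_left
    exact hu (h0 u (h3 ▸ mem_sup_right (mem_zpowers u)))
  have hA : IsCyclic ↥((S : Subgroup G) ⊓ P.c z) := by
    have key : ∀ H : Subgroup G, H ≤ (S : Subgroup G) ⊓ P.c z → Nat.card H = 2 → H = zpowers z :=
      fun H hH hH2 => by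
        obtain ⟨t, ht, hto⟩ := exists_mem_orderOf_eq_prime Nat.prime_two hH2.symm.dvd
        exact (eq_of_le_of_card_ge (zpowers_le.2 (h t (hH ht).2 hto ▸ ht))
          (by rw [Nat.card_zpowers, hz, hH2])).symm
    exact PG.isCyclic_of_unique_card_prime (S.isPGroup'.to_le inf_le_left)
      (fun H K hH hK h3 h4 => (key H hH h3).trans (key K hK h4).symm)
      (Or.inr ⟨⟨fun a b => Subtype.ext (P.comm_of_mem hz hc hu a.2.2 b.2.2)⟩⟩)
  obtain ⟨a, ha⟩ := hA.exists_generator
  have hvv := P.sq_of_not_mem hz (hS v hv) hv'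
  have h3 : v * a ∉ P.c z := fun e => hv' ((Subgroup.mul_mem_cancel_right _ (mem_inf.1 a.2).2).1 e)
  have h4 : (S : Subgroup G) ⊓ P.c z ≤ four v (v * a) := fun x hx => by
    obtain ⟨k, hk⟩ := mem_zpowers_iff.1 (ha ⟨x, hx⟩)
    rw [four_mul, show x = a.1 ^ k from (congrArg Subtype.val hk).symm]
    exact Subgroup.zpow_mem _ (right_mem_four _ _) k
  refine GW.dih2_of_sylow S hvv (P.sq_of_not_mem hz (hS _ (mul_mem hv a.2.1)) h3) fun x hx => ?_
  by_cases hx' : x ∈ P.c z
  · exact h4 ⟨hx, hx'⟩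
  · exact (mul_mem_cancel_left (left_mem_four _ _)).1
      (h4 ⟨mul_mem hv hx, h2 v x (hS v hv) (hS x hx) hv' hx'⟩)

include hR in
theorem of_dih2 (hnil : ∀ x : G, x ≠ 1 → Group.IsNilpotent (P.c x)) (hD : GW.Dih2 G)
    (hI : ∀ t : G, orderOf t = 2 → ∃ u : G, Commute u t ∧ u ∉ P.c t) (hz : orderOf z = 2)
    (h : ∀ t ∈ P.c z, orderOf t = 2 → t = z) :
    ∃ (F : Type) (_ : Field F) (_ : Fintype F), Odd (Fintype.card F) ∧ 3 < Fintype.card F ∧
      (Nonempty (G ≃* PSL(2, F)) ∨ Nonempty (G ≃* PGL(2, F))) := by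
  have hz1 := ne_one_of_orderOf hz
  have : Nontrivial G := ⟨⟨z, 1, hz1⟩⟩
  obtain ⟨E, hE⟩ := exists_isMinNormal G
  have := hE.normal
  have hns : ¬ Group.IsSolvable E := fun e => hE.ne_bot (hR E this e)
  have hna : ¬ IsMulCommutative E := fun _ => hns (isSolvable_of_comm E)
  have := (nontrivial_iff_ne_bot E).2 hE.ne_bot
  have : IsSimpleGroup E := by
    refine (hD.subgroup E).isSimpleGroup ((hE.eq_bot_or_top_of_characteristic _).resolve_left
      fun e => hna ?_) ((hE.eq_bot_or_top_of_characteristic _).resolve_right fun e => hns ?_)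
    · exact ⟨⟨fun a b => commutatorElement_eq_one_iff_mul_comm.1 (mem_bot.1
        (e ▸ commutator_mem_commutator (mem_top a) (mem_top b)))⟩⟩
    · have := odd_card_oddCore E
      rw [e, card_top] at this
      exact FT.odd_order_solvable this
  have hC : centralizer (E : Set G) = ⊥ := eq_bot_iff.2 fun x hx => by
    by_contra hx1
    have hn : ((P.c x).subgroupOf E).Normal := ⟨fun a ha g => (mem_normalizer_iff.1
      (P.mem_norm_of_comm hx1 (hx g g.2)) a.1).1 ha⟩
    rcases hn.eq_bot_or_eq_top with e | e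
    · have key : ∀ a : E, a ≠ 1 → a.1 ∉ P.c x := fun a ha h' => ha (mem_bot.1 (e ▸ h'))
      obtain ⟨a, ha⟩ := exists_ne (1 : E)
      have := Fact.mk (P.prime hx1 (key a ha) (hx a a.2).symm)
      have : IsPGroup (orderOf x) E := fun b => ⟨1, by
        by_cases hb : b = 1
        · rw [hb, one_pow]
        · rw [pow_one, P.orderOf_eq hx1 (key b hb) (hx b b.2).symm, Subgroup.orderOf_coe,
            pow_orderOf_eq_one]⟩
      have := this.isNilpotent
      exact hns inferInstance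
    · have := hnil x hx1
      exact hns (Group.isSolvable_of_isSolvable_injective
        (f := inclusion (subgroupOf_eq_top.1 e)) (inclusion_injective _))
  rcases (hD.subgroup E).isL2A7 hna with ⟨F, i1, i2, ho, h3, ⟨e⟩⟩ | ⟨⟨e⟩⟩
  · refine ⟨F, i1, i2, ho, h3, ?_⟩
    rw [← Nat.card_eq_fintype_card] at ho h3
    obtain ⟨M, hM⟩ := exists_PM ho E hC e
    obtain ⟨κ, ε, H⟩ := exists_par ho h3
    have h1 : ∀ x : G, x * x = 1 → x ∈ M.P := fun x hx => by
      by_cases hx1 : x = 1
      · exact hx1 ▸ one_mem _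
      · exact M.mem_P_of_invol H hD x (orderOf_of_mul_self hx hx1)
    obtain ⟨t, ht, w, -, htw⟩ := M.exists_four H
    have hto := orderOf_left htw
    obtain ⟨v, hv, hv'⟩ := hI t hto
    have h2 : (⊤ : Subgroup G) ≤ M.P := fun g _ => by
      obtain ⟨k, hk, e'⟩ := PM.conj (g * t * g⁻¹) ((inferInstance : M.E.Normal).conj_mem t ht g) t ht
        (by rw [Local.orderOf_conj, hto]) hto
      have h4 : Commute (k * g) t := by
        change k * g * t = t * (k * g)
        calc k * g * t = k * (g * t * g⁻¹) * k⁻¹ * (k * g) := by group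
          _ = t * (k * g) := by rw [e']
      refine (mul_mem_cancel_left (PM.up_le_P _ hk)).1 ?_
      by_cases h5 : k * g ∈ P.c t
      · exact (mul_mem_cancel_left (h1 v (P.sq_of_not_mem hto hv hv'))).1 (h1 _
          (P.sq_of_not_mem hto (hv.mul_left h4) fun e => hv' ((mul_mem_cancel_right h5).1 e)))
      · exact h1 _ (P.sq_of_not_mem hto h4 h5)
    have e1 : G ≃* M.down ⊤ := topEquiv.symm.trans (PM.downEquiv h2)
    have h4 : Class.psl2 F ≤ M.down ⊤ := fun g hg => by
      obtain ⟨x, -, hx⟩ := PM.exists_R' (M := M) hg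
      exact PM.mem_down.2 ⟨x, trivial, hx⟩
    have h5 := index_dvd_of_le h4
    have h6 := Class.index_psl2_eq_two (GW.ringChar_ne_two ho)
    rw [h6] at h5
    rcases (Nat.dvd_prime Nat.prime_two).1 h5 with h7 | h7
    · exact Or.inr ⟨e1.trans ((MulEquiv.subgroupCongr (index_eq_one.1 h7)).trans topEquiv)⟩
    · have h8 := relIndex_mul_index h4
      rw [h6, h7] at h8
      exact Or.inl ⟨e1.trans ((MulEquiv.subgroupCongr (le_antisymm (relIndex_eq_one.1 (by omega))
        h4)).trans (Class.pslEquivPsl2 F).symm)⟩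
  · exfalso
    obtain ⟨rfl, z', w, w', c, H⟩ := GW.Lift.exists_a7Data hD E hC e
    have := H.simple
    obtain ⟨g, rfl⟩ := hD.isConj (fun _ => hna inferInstance) hz (orderOf_left H.zw)
    have hc1 : c ≠ 1 := fun e => by simpa [e] using H.oc3
    have key : ∀ s : G, orderOf s = 2 → c ∈ GW.C1 s → P.c c = P.c s := fun s hs hc =>
      P.eq (ne_one_of_orderOf hs) hc1 (P.mem_of_ne (ne_one_of_orderOf hs)
        (mem_centralizer_singleton_iff.1 hc).symm (by rw [hs, H.oc3]; norm_num))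
    have h1 : w ∈ P.c (g * z * g⁻¹) := by
      rw [← key _ (orderOf_left H.zw) H.cz, key _ (orderOf_right H.zw) H.cw]
      exact P.mem w
    rw [show w = g * (g⁻¹ * w * g) * g⁻¹ by group, P.conj_iff hz1] at h1
    have h2 := h _ h1 (by simpa using (Local.orderOf_conj g⁻¹ w).trans (orderOf_right H.zw))
    exact H.zw.ne (by rw [← h2]; group)

include hR in
/-- **Suzuki's theorem** on groups with a partition. -/
theorem semisimple [Nontrivial G] (hnil : ∀ x : G, x ≠ 1 → Group.IsNilpotent (P.c x)) :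
    IsL2Even G ∨ Cfsg.Lie.IsoSuzuki G ∨
      ∃ (F : Type) (_ : Field F) (_ : Fintype F), Odd (Fintype.card F) ∧ 3 < Fintype.card F ∧
        (Nonempty (G ≃* PSL(2, F)) ∨ Nonempty (G ≃* PGL(2, F))) := by
  have := Fact.mk Nat.prime_two
  by_cases hI : ∃ z : G, orderOf z = 2 ∧ ∀ g : G, Commute g z → g ∈ P.c z
  · obtain ⟨z, hz, h⟩ := hI
    exact (P.typeI hR hnil hz h).imp_right Or.inl
  push Not at hI
  have h2 := twoRank_of_semisimple hR
  obtain ⟨S⟩ : Nonempty (Sylow 2 G) := inferInstance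
  have hS1 : (S : Subgroup G) ≠ ⊥ := by
    obtain ⟨x, -, hx1, -, -, hx, -⟩ := h2
    exact S.ne_bot_of_dvd_card (orderOf_of_mul_self hx hx1 ▸ _root_.orderOf_dvd_natCard x)
  by_cases hII : ∃ z ∈ (S : Subgroup G), orderOf z = 2 ∧ (∀ s ∈ (S : Subgroup G), Commute s z) ∧
      P.Two z
  · obtain ⟨z, hzS, hz, hS, h⟩ := hII
    obtain ⟨u, hu, hu'⟩ := hI z hz
    have h3 := fun t => P.unique hR hz hu hu' h S hzS hS (t := t)
    exact Or.inr (Or.inr (P.of_dih2 hR hnil (P.dih2 hz hu hu' h S hS h3) hI hz h3))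
  push Not at hII
  have key : ∀ z ∈ (S : Subgroup G), orderOf z = 2 → (∀ s ∈ (S : Subgroup G), Commute s z) →
      ∀ x : G, Commute x z → x * x = 1 := fun z hzS hz hS x hx => by
    have h := hII z hzS hz hS
    simp only [Two, not_forall] at h
    obtain ⟨v, w, hv, hw, h3, h4, h5⟩ := h
    exact P.sq_of_three hz hv hw h3 h4 h5 hx
  have comm : ∀ H : Subgroup G, (∀ x ∈ H, x * x = 1) → ∀ a ∈ H, ∀ b ∈ H, a * b = b * a :=
    fun H h a ha b hb => by
      have e : ∀ x ∈ H, x⁻¹ = x := fun x hx => inv_eq_of_mul_eq_one_right (h x hx)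
      rw [← e _ (mul_mem ha hb), mul_inv_rev, e a ha, e b hb]
  obtain ⟨z, hz, hzo, hc⟩ := exists_central_orderOf_eq S.isPGroup' hS1
  have h3 := comm S fun x hx => key z hz hzo (fun s hs => (hc s hs).symm) x (hc x hx).symm
  have hab : AbCent G := abCent_iff.2 fun t ht => ⟨⟨fun a b => Subtype.ext
    (comm _ (fun x hx => ?_) a a.2 b b.2)⟩⟩
  · have hO : oddCore G = ⊥ := hR _ inferInstance (FT.odd_order_solvable (odd_card_oddCore G))
    have hL := hab.isL2Even_quotient S (fun e => hS1 (hR _ e (by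
      have := S.isPGroup'.isNilpotent
      infer_instance))) h2
    exact Or.inl (hL.of_equiv ((QuotientGroup.quotientMulEquivOfEq hO).trans
      QuotientGroup.quotientBot))
  obtain ⟨T, hT⟩ := (IsPGroup.of_card (G := zpowers t) (n := 1)
    (by rw [Nat.card_zpowers, ht]; rfl) : IsPGroup 2 (zpowers t)).exists_le_sylow
  obtain ⟨g, rfl⟩ := MulAction.exists_smul_eq G T S
  have h4 : g * t * g⁻¹ ∈ ((g • T : Sylow 2 G) : Subgroup G) := ⟨t, hT (mem_zpowers t), rfl⟩
  have := key _ h4 (by rw [Local.orderOf_conj, ht]) (fun s hs => h3 s hs _ h4) (g * x * g⁻¹)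
    (by rw [Commute, SemiconjBy, conj_mul, conj_mul, mem_centralizer_singleton_iff.1 hx])
  simpa [conj_mul] using this

end Pt

/-- **Baer, Kegel, Suzuki**: the finite groups with a non-trivial partition. -/
theorem Pt.cases [Finite G] [Nontrivial G] (P : Pt G) : Nonempty (G ≃* Equiv.Perm (Fin 4)) ∨
    (∃ p : ℕ, p.Prime ∧ closure {g : G | g ^ p ≠ 1} ≠ ⊤) ∨
    (∃ H : Subgroup G, IsFrobeniusComplement H) ∨ IsL2Even G ∨ Cfsg.Lie.IsoSuzuki G ∨
      ∃ (F : Type) (_ : Field F) (_ : Fintype F), Odd (Fintype.card F) ∧ 3 < Fintype.card F ∧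
        (Nonempty (G ≃* PSL(2, F)) ∨ Nonempty (G ≃* PGL(2, F))) := by
  by_cases h1 : ∃ x : G, x ≠ 1 ∧ (P.c x).Normal
  · obtain ⟨x, hx, h⟩ := h1
    exact Or.inr ((P.of_normal hx).imp_right Or.inl)
  push Not at h1
  by_cases hR : ∀ N : Subgroup G, N.Normal → Group.IsSolvable N → N = ⊥
  · by_cases h2 : ∃ H : Subgroup G, IsFrobeniusComplement H
    · exact Or.inr (Or.inr (Or.inl h2))
    refine Or.inr (Or.inr (Or.inr (P.semisimple hR fun x hx => ?_)))
    obtain ⟨g, hg, hg'⟩ := SetLike.not_le_iff_exists.1 fun e => h2 ⟨_, P.frobenius hx e⟩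
    exact P.isNilpotent hx hg hg'
  · push Not at hR
    obtain ⟨R, hR, hs, h0⟩ := hR
    obtain ⟨p, N, hp, hN, -, -, -, hNp⟩ := exists_isMinNormal_elementary_le R h0
    exact (P.of_pCore h1 hp fun e => hN.ne_bot (le_bot_iff.1 (e ▸ le_pCore hN.normal hNp))).imp_right
      (Or.imp_right Or.inl)

end Cfsg.Lib.Part
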